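import Cfsg.Agent.KFacts.He.Classes
import Cfsg.Agent.H710.VanCount
import Cfsg.Agent.FastGrp
import Cfsg.Agent.Prune
set_option linter.all false
open scoped Cfsg.Agent.FastGrp

-- part: H710/Spor/HeCent
section
/-!
# Elements of order 8 and 12 of the Held group whose power is the 2-central involution (helper710)

* `x8`, `x12` : `x8 ^ 4 = z`, `x12 ^ 6 = z`; `card_cent8 : #C(x8) ≤ 16`, `card_cent12 : #C(x12) ≤ 12`.
* `conj8` : every `g` with `g ^ 4 = z` is conjugate to `x8`; `conj12` : every `g` with `g ^ 6 = z` and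
  `g ^ 4 ≠ 1` is conjugate to `x12`.
-/

set_option autoImplicit false
set_option Elab.async false

namespace Cfsg.Agent.H710.Spor.HeCent

open Cfsg.Spor Cfsg.Spor.He Cfsg.Agent.SporadicB.HePerm Cfsg.Agent.KFacts.He.Words
  Cfsg.Agent.KFacts.He.Hyp Cfsg.Agent.KFacts.He.AutP Cfsg.Agent.Held.Letters Cfsg.Agent.Held.GenC
  Cfsg.Agent.KFacts.He.Bound Cfsg.Agent.Held.LetterVals
  Cfsg.Agent.SporadicRecognition.CosetCert
open Cfsg.Agent.Held.Code (Emb C X mu mu_assoc mu_e1 mu_lt exists_emb zc)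
open Cfsg.Agent.Held.EmbSt (cx C_cx cx_sq evC C_evC ev_ph ph_e1)
open Cfsg.Agent.KFacts.He.Classes (cjc desc of_desc)

/-! ### The descent -/

section

variable {G : Type*} [Group G] {z : G} {ph : ℕ → G}

theorem C_cjc {s c : ℕ} (hc : C c) : C (cjc s c) := ((C_cx s).mul hc).mul (C_cx s)

theorem ph_cx_sq (h : Emb z ph) (s : ℕ) : ph (cx s) * ph (cx s) = 1 := by
  rw [← h.mul (C_cx s) (C_cx s), cx_sq, ph_e1 h]

theorem ph_cjc (h : Emb z ph) {s c : ℕ} (hc : C c) :
    ph (cjc s c) = ph (cx s) * ph c * (ph (cx s))⁻¹ := by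
  have hsi : (ph (cx s))⁻¹ = ph (cx s) := inv_eq_of_mul_eq_one_right (ph_cx_sq h s)
  unfold cjc
  rw [h.mul ((C_cx s).mul hc) (C_cx s), h.mul (C_cx s) hc, hsi]

/-- the letters of `w` conjugate one after the other, the first letter first -/
noncomputable def cjw (w : List ℕ) (c : ℕ) : ℕ :=
  List.rec (motive := fun _ => ℕ → ℕ) (fun c => c)
    (fun s _ ih c => Nat.rec (motive := fun _ => ℕ) (ih 0) (fun j _ => ih (Nat.succ j)) (cjc s c)) w c

theorem cjw_nil (c : ℕ) : cjw [] c = c := rfl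

theorem cjw_cons (s : ℕ) (w : List ℕ) (c : ℕ) : cjw (s :: w) c = cjw w (cjc s c) := by
  show Nat.rec (motive := fun _ => ℕ) (cjw w 0) (fun j _ => cjw w (Nat.succ j)) (cjc s c) = _
  rcases cjc s c with _ | j <;> rfl

theorem ph_cjw (h : Emb z ph) (w : List ℕ) {c : ℕ} (hc : C c) :
    ∃ g : G, g * z = z * g ∧ g * ph c * g⁻¹ = ph (cjw w c) := by
  induction w generalizing c with
  | nil => exact ⟨1, by simp, by rw [cjw_nil]; simp⟩
  | cons s w ih =>
    obtain ⟨g, h1, h2⟩ := ih (C_cjc (s := s) hc)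
    refine ⟨g * ph (cx s), ?_, ?_⟩
    · rw [mul_assoc, h.comm (C_cx s), ← mul_assoc, h1, mul_assoc]
    · rw [cjw_cons, ← h2, ph_cjc h hc]
      group

/-- the descent to a list of minimal codes -/
theorem reach (h : Emb z ph) {c0 : ℕ} {T : ℕ → Prop} (hT : ∀ s c, C c → T c → T (cjc s c))
    {L : List (ℕ × List ℕ)} (hL : ∀ p ∈ L, cjw p.2 p.1 = c0)
    (hP : ∀ c, C c → T c → (∃ p ∈ L, p.1 = c) ∨ ∃ s, cjc s c < c) :
    ∀ n c : ℕ, c ≤ n → C c → T c → ∃ g : G, g * z = z * g ∧ g * ph c * g⁻¹ = ph c0 := by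
  intro n
  induction n with
  | zero =>
    intro c hc hC hTc
    rcases hP c hC hTc with ⟨p, hp, rfl⟩ | ⟨s, hs⟩
    · rw [← hL p hp]
      exact ph_cjw h p.2 hC
    · omega
  | succ n ih =>
    intro c hc hC hTc
    rcases hP c hC hTc with ⟨p, hp, rfl⟩ | ⟨s, hs⟩
    · rw [← hL p hp]
      exact ph_cjw h p.2 hC
    · obtain ⟨g, h1, h2⟩ := ih (cjc s c) (by omega) (C_cjc hC) (hT s c hC hTc)
      refine ⟨g * ph (cx s), ?_, ?_⟩
      · rw [mul_assoc, h.comm (C_cx s), ← mul_assoc, h1, mul_assoc]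
      · rw [← h2, ph_cjc h hC]
        group

end

/-! ### The certificates -/

/-- codes of the two elements -/
def c8 : ℕ := 17593311
def c12 : ℕ := 17179219

/-- the centralizers -/
def l8 : List ℕ := [17043521, 17043537, 17044041, 17044057, 17576131, 17576147, 17576651, 17576667,
  17060165, 17060181, 17060685, 17060701, 17592775, 17592791, 17593295, 17593311]
def l12 : List ℕ := [17043521, 17043537, 17044035, 17044051, 17178689, 17178705, 17179203, 17179219,
  16920641, 16920657, 16921155, 16921171]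

/-- the minimal codes with conjugating words -/
def m8 : List (ℕ × List ℕ) := [(16849669, [4, 10, 11, 1]), (16851907, [11, 10, 7, 11, 0]),
  (16851909, [11, 10, 7, 2, 11, 0]), (16863619, [7, 11, 10, 4, 1]), (16863623, [7, 11, 10, 4, 2]),
  (16911299, [11, 10, 11, 0]), (16933059, [11, 4, 1]), (17566083, [10, 9, 0])]
def m12 : List (ℕ × List ℕ) := [(16849733, [4, 0, 5, 10, 9]), (16851587, [11, 1, 10, 9, 5]),
  (16851589, [11, 10, 5, 9, 1]), (16863557, [5, 4, 10, 4, 0]), (16863559, [5, 4, 10, 0, 4]),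
  (16863683, [11, 9, 5, 10, 0, 4]), (16863685, [11, 10, 11, 9, 4, 0]), (16865605, [4, 0, 5, 10]),
  (16865607, [0, 5, 4, 10, 0]), (16911107, [8, 2, 11, 5, 10]), (16921155, [7, 0]),
  (16921159, [7, 1, 0]), (16921283, [7, 4, 2, 0]), (16921287, [11, 5, 1, 0]),
  (16937155, [7, 9, 4, 2, 0]), (17565897, [7, 5, 11, 10, 5, 4, 0]),
  (17565899, [7, 5, 11, 10, 5, 0, 4]), (17566147, [8, 11, 10, 5, 0, 4]),
  (17566409, [7, 5, 11, 10, 9, 5, 4]), (17566411, [7, 4, 8, 11, 10, 7, 4, 1])]

noncomputable def chkL (c0 : ℕ) (l : List (ℕ × List ℕ)) : Bool :=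
  List.rec (motive := fun _ => Bool) true (fun p _ ih => Bool.rec false ih (Nat.beq (cjw p.2 p.1) c0)) l

theorem chkL_sound {c0 : ℕ} {l : List (ℕ × List ℕ)} (h : chkL c0 l = true) :
    ∀ p ∈ l, cjw p.2 p.1 = c0 := by
  induction l with
  | nil => simp
  | cons a l ih =>
    have h' : (Bool.rec false (chkL c0 l) (Nat.beq (cjw a.2 a.1) c0) : Bool) = true := h
    rcases ha : Nat.beq (cjw a.2 a.1) c0 with _ | _
    · rw [ha] at h'; exact absurd (show false = true from h') (by simp)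
    rw [ha] at h'
    intro p hp
    rcases List.mem_cons.mp hp with rfl | hp
    · exact Nat.eq_of_beq_eq_true ha
    · exact ih h' p hp

theorem chk_m8 : chkL c8 m8 = true := by decide +kernel
theorem chk_m12 : chkL c12 m12 = true := by decide +kernel

theorem evC8 : evC [0, 4, 7, 9] = c8 := by decide +kernel
theorem evC12 : evC [0, 6, 7, 11] = c12 := by decide +kernel

theorem C8 : C c8 := by rw [← evC8]; exact C_evC _
theorem C12 : C c12 := by rw [← evC12]; exact C_evC _

/-- all codes with fourth power `z` are on the list or not minimal -/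
noncomputable def P8 (c : ℕ) : Bool :=
  Bool.rec true (Bool.rec (desc c 12) true (memL c (m8.map Prod.fst)))
    (Nat.beq (mu (mu c c) (mu c c)) zc)

noncomputable def P12 (c : ℕ) : Bool :=
  Bool.rec true (Bool.rec (Bool.rec (desc c 12) true (memL c (m12.map Prod.fst))) true
    (Nat.beq (mu (mu c c) (mu c c)) Held.Code.e1))
    (Nat.beq (mu (mu c c) (mu (mu c c) (mu c c))) zc)

/-- the centralizers -/
noncomputable def Q (c0 : ℕ) (l : List ℕ) (c : ℕ) : Bool :=
  Bool.rec true (memL c l) (Nat.beq (mu c c0) (mu c0 c))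

/-- both arguments by value -/
private noncomputable def muV (a b : ℕ) : ℕ := Nat.rec 0 (fun a _ => Nat.rec 0 (fun b _ => mu5 a b) (Nat.succ b)) (Nat.succ a)

private theorem chk_all : HeldType.Code.allC (fun c => P8 c && (P12 c && (Q c8 l8 c && Q c12 l12 c))) = true := by
  refine allC_of5 ?_
  delta P8 P12 Q desc cjc mu
  rewrite [show Lib.F2Mat.mul 5 = muV from mu_eq5]
  decide +kernel

private theorem allC_and {P Q : ℕ → Bool} (h : HeldType.Code.allC (fun c => P c && Q c) = true) :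
    HeldType.Code.allC P = true ∧ HeldType.Code.allC Q = true := by
  delta HeldType.Code.allC at h ⊢
  simp only [List.all_eq_true, Bool.and_eq_true] at h ⊢
  exact ⟨fun m hm r hr c hc => (h m hm r hr c hc).1, fun m hm r hr c hc => (h m hm r hr c hc).2⟩

theorem chkP8 : HeldType.Code.allC P8 = true := (allC_and chk_all).1
theorem chkP12 : HeldType.Code.allC P12 = true := (allC_and (allC_and chk_all).2).1
theorem chkQ8 : HeldType.Code.allC (Q c8 l8) = true := (allC_and (allC_and (allC_and chk_all).2).2).1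
theorem chkQ12 : HeldType.Code.allC (Q c12 l12) = true := (allC_and (allC_and (allC_and chk_all).2).2).2

theorem fourth_c8 : mu (mu c8 c8) (mu c8 c8) = zc := by decide +kernel
theorem sixth_c12 : mu (mu c12 c12) (mu (mu c12 c12) (mu c12 c12)) = zc := by decide +kernel
theorem fourth_c12 : mu (mu c12 c12) (mu c12 c12) ≠ Held.Code.e1 := by decide +kernel

theorem cases8 {c : ℕ} (hc : C c) (h1 : mu (mu c c) (mu c c) = zc) :
    (∃ p ∈ m8, p.1 = c) ∨ ∃ s, cjc s c < c := by
  have h := HeldType.Code.of_allC chkP8 (good_of_C hc)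
  unfold P8 at h
  rw [h1, Nat.beq_refl] at h
  rcases hm : memL c (m8.map Prod.fst) with _ | _
  · rw [hm] at h
    exact Or.inr (of_desc h)
  · left
    obtain ⟨p, hp, hpc⟩ := List.mem_map.1 (memL_iff hm)
    exact ⟨p, hp, hpc⟩

theorem cases12 {c : ℕ} (hc : C c) (h1 : mu (mu c c) (mu (mu c c) (mu c c)) = zc)
    (h2 : mu (mu c c) (mu c c) ≠ Held.Code.e1) :
    (∃ p ∈ m12, p.1 = c) ∨ ∃ s, cjc s c < c := by
  have h := HeldType.Code.of_allC chkP12 (good_of_C hc)
  unfold P12 at h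
  rw [h1, Nat.beq_refl] at h
  have h3 : Nat.beq (mu (mu c c) (mu c c)) Held.Code.e1 = false := by
    rcases hb : Nat.beq (mu (mu c c) (mu c c)) Held.Code.e1 with _ | _
    · rfl
    · exact absurd (Nat.eq_of_beq_eq_true hb) h2
  rw [h3] at h
  rcases hm : memL c (m12.map Prod.fst) with _ | _
  · rw [hm] at h
    exact Or.inr (of_desc h)
  · left
    obtain ⟨p, hp, hpc⟩ := List.mem_map.1 (memL_iff hm)
    exact ⟨p, hp, hpc⟩

theorem mem_of_comm {c0 : ℕ} {l : List ℕ} (hQ : HeldType.Code.allC (Q c0 l) = true) {c : ℕ}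
    (hc : C c) (h1 : mu c c0 = mu c0 c) : c ∈ l := by
  have h := HeldType.Code.of_allC hQ (good_of_C hc)
  unfold Q at h
  rw [h1, Nat.beq_refl] at h
  exact memL_iff h

/-! ### The Held group -/

/-- the two elements -/
def x8 : Cfsg.Spor.He := ev (gy xr y1 y2) [0, 4, 7, 9]
def x12 : Cfsg.Spor.He := ev (gy xr y1 y2) [0, 6, 7, 11]

theorem card_le_of_list {c0 : ℕ} {l : List ℕ} (hQ : HeldType.Code.allC (Q c0 l) = true)
    (hC : C c0) {z : Cfsg.Spor.He} {ph : ℕ → Cfsg.Spor.He} (E : Emb z ph) {k : ℕ}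
    (hk : (ph c0) ^ k = z) :
    Nat.card (Subgroup.centralizer ({ph c0} : Set Cfsg.Spor.He)) ≤ l.length := by
  classical
  have h1 : ((Subgroup.centralizer ({ph c0} : Set Cfsg.Spor.He) : Subgroup Cfsg.Spor.He) :
      Set Cfsg.Spor.He) ⊆ ((l.map ph).toFinset : Set Cfsg.Spor.He) := by
    intro g hg
    have hg' : g * ph c0 = ph c0 * g := Subgroup.mem_centralizer_singleton_iff.1 hg
    have hgz : g * z = z * g := by
      rw [← hk]
      exact (Commute.pow_right (show Commute g (ph c0) from hg') k)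
    obtain ⟨c, hc, rfl⟩ := E.surj g hgz
    have h2 : mu c c0 = mu c0 c := by
      apply E.inj (hc.mul hC) (hC.mul hc)
      rw [E.mul hc hC, E.mul hC hc, hg']
    simp only [Finset.mem_coe, List.mem_toFinset, List.mem_map]
    exact ⟨c, mem_of_comm hQ hc h2, rfl⟩
  have h2 : Nat.card (Subgroup.centralizer ({ph c0} : Set Cfsg.Spor.He)) =
      ((Subgroup.centralizer ({ph c0} : Set Cfsg.Spor.He) : Subgroup Cfsg.Spor.He) :
        Set Cfsg.Spor.He).ncard := rfl
  rw [h2]
  refine (Set.ncard_le_ncard h1 (Finset.finite_toSet _)).trans ?_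
  rw [Set.ncard_coe_finset]
  exact (List.toFinset_card_le _).trans (by rw [List.length_map])

theorem ph_word {ph : ℕ → Cfsg.Spor.He} (E : Emb z ph) (hph : ∀ n < 12, ph (cx n) = gx xr n)
    (w : List ℕ) (hw : ∀ l ∈ w, l < 12) : ph (evC w) = ev (gy xr y1 y2) w := by
  rw [← ev_ph E]
  apply ev_congr
  intro l hl
  rw [gy_of_lt xr y1 y2 (hw l hl), Held.EmbSt.gx_ph E, hph l (hw l hl)]

theorem exists_ph : ∃ ph : ℕ → Cfsg.Spor.He, Emb z ph ∧ ph c8 = x8 ∧ ph c12 = x12 := by
  obtain ⟨ph, E, hph⟩ := Cfsg.Agent.KFacts.He.Classes.exists_ph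
  refine ⟨ph, E, ?_, ?_⟩
  · rw [← evC8]
    exact ph_word E hph _ (by decide)
  · rw [← evC12]
    exact ph_word E hph _ (by decide)

theorem fourth {ph : ℕ → Cfsg.Spor.He} (E : Emb z ph) {c : ℕ} (hc : C c) :
    ph (mu (mu c c) (mu c c)) = ph c ^ 4 := by
  rw [E.mul (hc.mul hc) (hc.mul hc), E.mul hc hc]
  simp only [pow_succ, pow_zero, one_mul, mul_assoc]

theorem sixth {ph : ℕ → Cfsg.Spor.He} (E : Emb z ph) {c : ℕ} (hc : C c) :
    ph (mu (mu c c) (mu (mu c c) (mu c c))) = ph c ^ 6 := by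
  rw [E.mul (hc.mul hc) ((hc.mul hc).mul (hc.mul hc)), E.mul (hc.mul hc) (hc.mul hc), E.mul hc hc]
  simp only [pow_succ, pow_zero, one_mul, mul_assoc]

theorem x8_pow : x8 ^ 4 = z := by
  obtain ⟨ph, E, h8, -⟩ := exists_ph
  rw [← h8, ← fourth E C8, fourth_c8, E.z_eq]

theorem x12_pow : x12 ^ 6 = z := by
  obtain ⟨ph, E, -, h12⟩ := exists_ph
  rw [← h12, ← sixth E C12, sixth_c12, E.z_eq]

theorem x12_pow_four : x12 ^ 4 ≠ 1 := by
  obtain ⟨ph, E, -, h12⟩ := exists_ph
  rw [← h12, ← fourth E C12, ← ph_e1 E]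
  intro h
  exact fourth_c12 (E.inj ((C12.mul C12).mul (C12.mul C12)) Held.Code.C_e1 h)

theorem card_cent8 : Nat.card (Subgroup.centralizer ({x8} : Set Cfsg.Spor.He)) ≤ 16 := by
  obtain ⟨ph, E, h8, -⟩ := exists_ph
  have h := card_le_of_list chkQ8 C8 E (k := 4) (by rw [h8, x8_pow])
  rw [h8] at h
  exact h

theorem card_cent12 : Nat.card (Subgroup.centralizer ({x12} : Set Cfsg.Spor.He)) ≤ 12 := by
  obtain ⟨ph, E, -, h12⟩ := exists_ph
  have h := card_le_of_list chkQ12 C12 E (k := 6) (by rw [h12, x12_pow])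
  rw [h12] at h
  exact h

theorem conj8 {g : Cfsg.Spor.He} (hg : g ^ 4 = z) : IsConj g x8 := by
  obtain ⟨ph, E, h8, -⟩ := exists_ph
  have hgz : g * z = z * g := by rw [← hg, ← pow_succ', ← pow_succ]
  obtain ⟨c, hc, rfl⟩ := E.surj g hgz
  have hT : ∀ s c, C c → mu (mu c c) (mu c c) = zc →
      mu (mu (cjc s c) (cjc s c)) (mu (cjc s c) (cjc s c)) = zc := by
    intro s c hc h
    apply E.inj (((C_cjc hc).mul (C_cjc hc)).mul ((C_cjc hc).mul (C_cjc hc)))
      (by rw [← fourth_c8]; exact (C8.mul C8).mul (C8.mul C8))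
    rw [fourth E (C_cjc hc), ph_cjc E hc, conj_pow, ← fourth E hc, h, E.z_eq, E.comm (C_cx s),
      mul_inv_cancel_right]
  obtain ⟨k, -, hk⟩ := reach E (T := fun c => mu (mu c c) (mu c c) = zc) hT (chkL_sound chk_m8)
    (fun c hc h => cases8 hc h) c c le_rfl hc (by
      apply E.inj ((hc.mul hc).mul (hc.mul hc))
        (by rw [← fourth_c8]; exact (C8.mul C8).mul (C8.mul C8))
      rw [fourth E hc, hg, E.z_eq])
  rw [h8] at hk
  exact isConj_iff.2 ⟨k, hk⟩

theorem conj12 {g : Cfsg.Spor.He} (hg : g ^ 6 = z) (hg4 : g ^ 4 ≠ 1) : IsConj g x12 := by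
  obtain ⟨ph, E, h8, h12⟩ := exists_ph
  have hgz : g * z = z * g := by rw [← hg, ← pow_succ', ← pow_succ]
  obtain ⟨c, hc, rfl⟩ := E.surj g hgz
  have hzc : C zc := by rw [← fourth_c8]; exact (C8.mul C8).mul (C8.mul C8)
  have hT : ∀ s c, C c → (ph c ^ 6 = z ∧ ph c ^ 4 ≠ 1) → (ph (cjc s c) ^ 6 = z ∧
      ph (cjc s c) ^ 4 ≠ 1) := by
    intro s c hc h
    rw [ph_cjc E hc, conj_pow, conj_pow, h.1, E.comm (C_cx s), mul_inv_cancel_right]
    refine ⟨rfl, fun h2 => h.2 ?_⟩
    rwa [conj_eq_one_iff] at h2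
  obtain ⟨k, -, hk⟩ := reach E (T := fun c => ph c ^ 6 = z ∧ ph c ^ 4 ≠ 1) hT (chkL_sound chk_m12)
    (fun c hc h => cases12 hc
      (E.inj ((hc.mul hc).mul ((hc.mul hc).mul (hc.mul hc))) hzc (by rw [sixth E hc, h.1, E.z_eq]))
      (fun h2 => h.2 (by rw [← fourth E hc, h2, ph_e1 E]))) c c le_rfl hc ⟨hg, hg4⟩
  rw [h12] at hk
  exact isConj_iff.2 ⟨k, hk⟩

end Cfsg.Agent.H710.Spor.HeCent
end

-- part: H710/Spor/He
section
/-!
# The row of the Held group for S4943 (helper710)

`x8` and `x12` have orders 8 and 12, centralizers of orders at most 16 and 12; the Held group has at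
least 18 classes; so irreducible characters vanish at `x8` and at `x12` and all their images under
automorphisms.
-/

set_option autoImplicit false
set_option Elab.async false

namespace Cfsg.Agent.H710.Spor.He

open Cfsg Cfsg.Spor Cfsg.Spor.He Cfsg.Agent.H713 Cfsg.Agent.SporadicB.HePerm Cfsg.Agent.KFacts.He.Words
  Cfsg.Agent.KFacts.He.Hyp Cfsg.Agent.Held.Letters Cfsg.Agent.H710.VanCount
  Cfsg.Agent.SporadicRecognition.CosetCert Cfsg.Agent.H710.Spor.HeCent
open Cfsg.Agent.KFacts.He.Bound (z)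

universe u v

instance : Finite Cfsg.Spor.He :=
  Nat.finite_of_card_ne_zero (by rw [Cfsg.Agent.KFacts.He.Classes.card_he]; norm_num)

/-- the value of a word -/
abbrev E (w : List ℕ) : Cfsg.Spor.He := ev (gy xr y1 y2) w

/-- a power of a word -/
def rep (n : ℕ) (w : List ℕ) : List ℕ := (List.replicate n w).flatten

theorem E_rep (n : ℕ) (w : List ℕ) : E (rep n w) = E w ^ n := ev_flatten _ n w

theorem eqW_of_eq {u v : List ℕ} (h : E u = E v) : eqW u v = true := by
  have key : ∀ i : Fin 2058, im u i = im v i := by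
    intro i
    rw [← im_spec, ← im_spec]
    exact congrArg (fun x => ((phi x i : Fin 2058) : ℕ)) h
  have h0 := key 0
  have h1 := key 1
  have h2 := key 32
  have h3 := key 8
  unfold eqW
  rw [show im u 0 = im v 0 from h0, show im u 1 = im v 1 from h1, show im u 32 = im v 32 from h2,
    show im u 8 = im v 8 from h3, Nat.beq_refl, Nat.beq_refl, Nat.beq_refl, Nat.beq_refl]

theorem ne_of_eqW {u v : List ℕ} (h : eqW u v = false) : E u ≠ E v := fun h' => by
  rw [eqW_of_eq h'] at h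
  exact absurd h (by simp)

/-- no power with exponent `m`, `0 < m < n + 1` is trivial -/
noncomputable def noPow (w : List ℕ) (n : ℕ) : Bool :=
  Nat.rec (motive := fun _ => Bool) true (fun m ih => Bool.rec ih false (eqW (rep (Nat.succ m) w) [])) n

theorem noPow_sound {w : List ℕ} {n : ℕ} (h : noPow w n = true) : ∀ m < n, E w ^ (m + 1) ≠ 1 := by
  induction n with
  | zero => intro m hm; omega
  | succ n ih =>
    have h' : (Bool.rec (noPow w n) false (eqW (rep (Nat.succ n) w) []) : Bool) = true := h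
    rcases ha : eqW (rep (Nat.succ n) w) [] with _ | _
    · rw [ha] at h'
      intro m hm
      rcases Nat.lt_or_ge m n with h1 | h1
      · exact ih h' m h1
      · have h2 : m = n := by omega
        subst h2
        rw [← E_rep]
        exact ne_of_eqW ha
    · rw [ha] at h'
      exact absurd (show false = true from h') (by simp)

/-- the word `w` has order `n + 1` -/
noncomputable def ordB (w : List ℕ) (n : ℕ) : Bool :=
  Bool.rec false (noPow w n) (eqW (rep (Nat.succ n) w) [])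

theorem orderOf_of_ordB {w : List ℕ} {n : ℕ} (h : ordB w n = true) : orderOf (E w) = n + 1 := by
  unfold ordB at h
  rcases ha : eqW (rep (Nat.succ n) w) [] with _ | _
  · rw [ha] at h
    exact absurd (show false = true from h) (by simp)
  · rw [ha] at h
    rw [orderOf_eq_iff (Nat.succ_pos n)]
    refine ⟨?_, fun m hm hm0 => ?_⟩
    · rw [← E_rep]
      exact weq ha
    · obtain ⟨k, rfl⟩ : ∃ k, m = k + 1 := ⟨m - 1, by omega⟩
      exact noPow_sound h k (by omega)

theorem o1 : orderOf (E []) = 1 := orderOf_of_ordB (n := 0) (by decide +kernel)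
theorem o2 : orderOf (E [3]) = 2 := orderOf_of_ordB (n := 1) (by decide +kernel)
theorem o2' : orderOf (E [0, 8]) = 2 := orderOf_of_ordB (n := 1) (by decide +kernel)
theorem o3 : orderOf (E [15]) = 3 := orderOf_of_ordB (n := 2) (by decide +kernel)
theorem o4 : orderOf (E [8, 2, 11]) = 4 := orderOf_of_ordB (n := 3) (by decide +kernel)
theorem o5 : orderOf (E [11, 13, 3, 4]) = 5 := orderOf_of_ordB (n := 4) (by decide +kernel)
theorem o6 : orderOf (E [14, 13]) = 6 := orderOf_of_ordB (n := 5) (by decide +kernel)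
theorem o7 : orderOf (E [5, 10, 11]) = 7 := orderOf_of_ordB (n := 6) (by decide +kernel)
theorem o8 : orderOf x8 = 8 := orderOf_of_ordB (n := 7) (by decide +kernel)
theorem o10 : orderOf (E [12, 11]) = 10 := orderOf_of_ordB (n := 9) (by decide +kernel)
theorem o12 : orderOf x12 = 12 := orderOf_of_ordB (n := 11) (by decide +kernel)
theorem o14 : orderOf (E [12, 11, 10, 6]) = 14 := orderOf_of_ordB (n := 13) (by decide +kernel)
theorem o15 : orderOf (E [10, 14, 13]) = 15 := orderOf_of_ordB (n := 14) (by decide +kernel)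
theorem o17 : orderOf (E [11, 10, 14, 8]) = 17 := orderOf_of_ordB (n := 16) (by decide +kernel)
theorem o21 : orderOf (E [14, 11, 10, 8]) = 21 := orderOf_of_ordB (n := 20) (by decide +kernel)

theorem z_eq : z = E [3] := by
  rw [E, ev_one]
  rfl

theorem v_eq : Cfsg.Agent.KFacts.He.Classes.v = E [0, 8] := rfl

/-- an element of order five commutes with `v` -/
theorem card_v : 5 ∣ Nat.card (Subgroup.centralizer ({E [0, 8]} : Set Cfsg.Spor.He)) := by
  -- the element of order five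
  set g : Cfsg.Spor.He := E [4, 10, 14, 0] * E [12, 11] ^ 2 * (E [4, 10, 14, 0])⁻¹ with hg
  have h2 : orderOf g = 5 := by
    rw [hg]
    have h3 : orderOf (E [12, 11] ^ 2) = 5 := by
      rw [orderOf_pow, o10]
      rfl
    rw [← h3]
    exact (MulEquiv.orderOf_eq (MulAut.conj (E [4, 10, 14, 0])) (E [12, 11] ^ 2) :)
  have h3 : E [4, 10, 14, 0] * E [12, 11] ^ 5 * (E [4, 10, 14, 0])⁻¹ = E [0, 8] := by
    rw [mul_inv_eq_iff_eq_mul, ← E_rep]
    show ev _ _ * ev _ _ = ev _ _ * ev _ _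
    rw [← ev_append, ← ev_append]
    exact weq (by decide +kernel)
  have h4 : g ∈ Subgroup.centralizer ({E [0, 8]} : Set Cfsg.Spor.He) := by
    rw [Subgroup.mem_centralizer_singleton_iff, hg, ← h3]
    have h5 : E [12, 11] ^ 2 * E [12, 11] ^ 5 = E [12, 11] ^ 5 * E [12, 11] ^ 2 := by
      rw [← pow_add, ← pow_add]
    calc E [4, 10, 14, 0] * E [12, 11] ^ 2 * (E [4, 10, 14, 0])⁻¹ *
          (E [4, 10, 14, 0] * E [12, 11] ^ 5 * (E [4, 10, 14, 0])⁻¹)
        = E [4, 10, 14, 0] * (E [12, 11] ^ 2 * E [12, 11] ^ 5) * (E [4, 10, 14, 0])⁻¹ := by group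
      _ = E [4, 10, 14, 0] * (E [12, 11] ^ 5 * E [12, 11] ^ 2) * (E [4, 10, 14, 0])⁻¹ := by rw [h5]
      _ = _ := by group
  have h5 : orderOf g ∣ Nat.card (Subgroup.centralizer ({E [0, 8]} : Set Cfsg.Spor.He)) := by
    rw [← Subgroup.orderOf_mk g h4]
    exact orderOf_dvd_natCard _
  rwa [h2] at h5

theorem not_conj_z_v : ¬ IsConj z (E [0, 8]) := by
  intro hc
  have h1 := card_v
  rw [Cfsg.Agent.Blocks.SylowIn.card_centralizer_of_isConj hc,
    Cfsg.Agent.KFacts.He.Classes.card_centralizer] at h1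
  omega

/-- an element of order four whose square is conjugate to `v` -/
theorem sq_four : IsConj (E [8, 2, 11] ^ 2) (E [0, 8]) := by
  refine isConj_iff.2 ⟨E [13, 11, 10, 7], ?_⟩
  rw [mul_inv_eq_iff_eq_mul, ← E_rep]
  show ev _ _ * ev _ _ = ev _ _ * ev _ _
  rw [← ev_append, ← ev_append]
  exact weq (by decide +kernel)

/-- an element of order six whose cube is conjugate to `v` -/
theorem cube_six : IsConj (E [14, 13] ^ 3) (E [0, 8]) := by
  refine isConj_iff.2 ⟨E [4, 5, 10, 14, 11, 0], ?_⟩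
  rw [mul_inv_eq_iff_eq_mul, ← E_rep]
  show ev _ _ * ev _ _ = ev _ _ * ev _ _
  rw [← ev_append, ← ev_append]
  exact weq (by decide +kernel)

theorem card_classes : 17 ≤ Nat.card (ConjClasses Cfsg.Spor.He) := by
  have h := le_card_conjClasses_two (G := Cfsg.Spor.He)
    {1, 2, 3, 4, 5, 6, 7, 8, 10, 12, 14, 15, 17, 21} {2, 4, 6} ?_ ?_
  · exact h
  · intro n hn
    simp only [Finset.mem_insert, Finset.mem_singleton] at hn
    rcases hn with rfl | rfl | rfl | rfl | rfl | rfl | rfl | rfl | rfl | rfl | rfl | rfl | rfl | rfl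
    · exact ⟨_, o1⟩
    · exact ⟨_, o2⟩
    · exact ⟨_, o3⟩
    · exact ⟨_, o4⟩
    · exact ⟨_, o5⟩
    · exact ⟨_, o6⟩
    · exact ⟨_, o7⟩
    · exact ⟨_, o8⟩
    · exact ⟨_, o10⟩
    · exact ⟨_, o12⟩
    · exact ⟨_, o14⟩
    · exact ⟨_, o15⟩
    · exact ⟨_, o17⟩
    · exact ⟨_, o21⟩
  · intro n hn
    simp only [Finset.mem_insert, Finset.mem_singleton] at hn
    rcases hn with rfl | rfl | rfl
    · exact ⟨_, _, o2, o2', by rw [← z_eq]; exact not_conj_z_v⟩
    · refine ⟨x8 ^ 2, E [8, 2, 11], by rw [orderOf_pow, o8]; rfl, o4, fun h => not_conj_z_v ?_⟩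
      have h1 := h.pow 2
      rw [← pow_mul, x8_pow] at h1
      exact h1.trans sq_four
    · refine ⟨x12 ^ 2, E [14, 13], by rw [orderOf_pow, o12]; rfl, o6, fun h => not_conj_z_v ?_⟩
      have h1 := h.pow 3
      rw [← pow_mul, x12_pow] at h1
      exact h1.trans cube_six

/-- An automorphism maps `z` to a conjugate of `z`. -/
theorem exists_fix (α : MulAut Cfsg.Spor.He) : ∃ g : Cfsg.Spor.He, g * α z * g⁻¹ = z := by
  have hz : orderOf z = 2 := by rw [z_eq]; exact o2
  have h1 : orderOf (α z) = 2 := by rw [MulEquiv.orderOf_eq, hz]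
  obtain ⟨h2, h3⟩ := Cfsg.Agent.H713.orderOf_two h1
  rcases Cfsg.Agent.KFacts.He.Classes.two_classes h2 h3 with ⟨g, hg⟩ | ⟨g, hg⟩
  · refine ⟨g⁻¹, ?_⟩
    rw [← hg]
    group
  · -- the centralizers have different orders
    exfalso
    have hcard : Nat.card (Subgroup.centralizer ({α z} : Set Cfsg.Spor.He)) = 21504 := by
      have h4 : (Subgroup.centralizer ({z} : Set Cfsg.Spor.He)).map
          (α : Cfsg.Spor.He →* Cfsg.Spor.He) = Subgroup.centralizer ({α z} : Set Cfsg.Spor.He) := by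
        ext x
        simp only [Subgroup.mem_map, Subgroup.mem_centralizer_singleton_iff, MonoidHom.coe_coe]
        constructor
        · rintro ⟨y, hy, rfl⟩
          rw [← map_mul, hy, map_mul]
        · intro hx
          refine ⟨α.symm x, ?_, α.apply_symm_apply x⟩
          apply α.injective
          rw [map_mul, map_mul]
          simpa only [_root_.MulEquiv.apply_symm_apply] using hx
      rw [← h4, Subgroup.card_map_of_injective
        (show Function.Injective (α : Cfsg.Spor.He →* Cfsg.Spor.He) from α.injective)]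
      exact Cfsg.Agent.KFacts.He.Classes.card_centralizer
    have h5 := card_v
    rw [← v_eq, Cfsg.Agent.Blocks.SylowIn.card_centralizer_of_isConj
      (isConj_iff.2 ⟨g, hg⟩ : IsConj Cfsg.Agent.KFacts.He.Classes.v (α z)).symm, hcard] at h5
    omega

theorem vz8 : VZ Cfsg.Spor.He x8 := by
  refine vz_of_card x8 (lt_of_le_of_lt card_cent8 (lt_of_lt_of_le (by norm_num) card_classes)) ?_
  intro α
  refine ⟨1, ?_⟩
  rw [pow_one]
  obtain ⟨g, hg⟩ := exists_fix α
  have h1 : (g * α x8 * g⁻¹) ^ 4 = z := by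
    rw [conj_pow, ← map_pow, x8_pow, hg]
  exact (conj8 h1).symm.trans (isConj_iff.2 ⟨g⁻¹, by group⟩)

theorem vz12 : VZ Cfsg.Spor.He x12 := by
  refine vz_of_card x12 (lt_of_le_of_lt card_cent12 (lt_of_lt_of_le (by norm_num) card_classes)) ?_
  intro α
  refine ⟨1, ?_⟩
  rw [pow_one]
  obtain ⟨g, hg⟩ := exists_fix α
  have h1 : (g * α x12 * g⁻¹) ^ 6 = z := by
    rw [conj_pow, ← map_pow, x12_pow, hg]
  have h2 : (g * α x12 * g⁻¹) ^ 4 ≠ 1 := by
    rw [conj_pow, ← map_pow, Ne, conj_eq_one_iff]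
    intro h
    exact x12_pow_four (α.injective (by rw [h, map_one]))
  exact (conj12 h1 h2).symm.trans (isConj_iff.2 ⟨g⁻¹, by group⟩)

theorem row_he' : Row.{u, 0} Cfsg.Spor.He :=
  row_of_vz vz8 vz12 (by rw [o8, o12]; norm_num) (d := 4) (by norm_num)
    (by rw [o8]; norm_num) (by rw [o12]; norm_num)

theorem row_he {S : Type v} [Group S] (h : Spor.IsoHe S) : Row.{u, v} S := by
  obtain ⟨e⟩ := h
  exact Row.mulEquiv row_he' e.symm

end Cfsg.Agent.H710.Spor.He
end

private theorem dce_254b8ec3ef65 : _root_.True := by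
  try have : _root_.True := by simp only [_root_.Cfsg.Agent.H710.Spor.He.E.eq_1]
  exact _root_.True.intro
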